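import Groth.Agent.ModSt.K41.CohSE
import Groth.Agent.Perf.K233.ExtFin

/-!
# Finiteness of automorphism groups over finite rings: the axiom `FA` for `Coh f`
-/

set_option autoImplicit false
universe u

open CategoryTheory CategoryTheory.Limits AlgebraicGeometry Opposite ModSt K607.Artin K927.ModSt

attribute [local instance] HasDerivedCategory.standard

noncomputable section

namespace K41.CohFA

theorem isCoh_of_isFP {Y : Scheme.{u}} {F : Y.Modules} (hF : CohB1.IsFP F) : Coh.IsCoh F :=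
  ⟨Groth.Agent.PerfC.FPSections.isQCoh_of_isFP hF, Groth.Agent.Models2.FPCoh.isFT_of_isFP hF⟩

/-- `Hom` sets of f.p. modules on a proper scheme over a finite ring are finite. -/
theorem finite_hom (A : Type u) [CommRing A] [Finite A] {Y : Scheme.{u}} (g : Y ⟶ Spec (CommRingCat.of A))
    [IsProper g] {E F : Y.Modules} (hE : CohB1.IsFP E) (hF : CohB1.IsFP F) : Finite (E ⟶ F) := by
  let _ : Y.Over (Spec (CommRingCat.of A)) := ⟨g⟩
  have : IsProper (Y ↘ Spec (CommRingCat.of A)) := ‹IsProper g›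
  have hfin : Module.Finite A (DCoh.inD Y E ⟶ DCoh.inD Y F) :=
    K233.ExtFin.finite_Hom _ _ 0 (Groth.Agent.PerfA.QCohD.isCohD_inD E (isCoh_of_isFP hE)) 0
      (Groth.Agent.PerfA.QCohD.isCohD_inD F (isCoh_of_isFP hF))
  have : Finite (DCoh.inD Y E ⟶ DCoh.inD Y F) := Module.finite_of_finite A
  exact Finite.of_injective (fun φ : E ⟶ F => (DerivedCategory.singleFunctor Y.Modules 0).map φ)
    (DerivedCategory.singleFunctor Y.Modules 0).map_injective

variable {Λ : Type u} [CommRing Λ] {X : Scheme.{u}} (f : X ⟶ Spec (CommRingCat.of Λ))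

theorem fa [IsProper f] : FA (Coh f) := by
  intro A _ _ _ x hx
  obtain ⟨x, hxc⟩ := x
  have hx' : x.base = sp Λ A := hx
  have hp : IsProper (x.q ≫ (CohSE.bIso f hx').hom) :=
    MorphismProperty.of_isPullback (CohSE.isPullback_sp hx') ‹IsProper f›
  have h1 : Finite (x.E ⟶ x.E) := finite_hom A (x.q ≫ (CohSE.bIso f hx').hom) hxc.2 hxc.2
  have h1' : Finite (x.E ⟶ (𝟭 x.XT.Modules).obj x.E) := h1
  have h2 : Finite (x.E ⟶ (Scheme.Modules.pushforward (𝟙 x.XT)).obj x.E) :=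
    Finite.of_equiv _ ((Iso.refl x.E).homCongr ((Scheme.Modules.pushforwardId x.XT).symm.app x.E))
  let Φ : {c : x.E ⟶ (Scheme.Modules.pushforward (𝟙 x.XT)).obj x.E // IsCart (𝟙 x.XT) c} →
      {e : (⟨x, hxc⟩ : (Coh f).obj) ⟶ ⟨x, hxc⟩ // (Coh f).p.map e = 𝟙 _} := fun c =>
    ⟨ObjectProperty.homMk (⟨𝟙 _, 𝟙 _, Category.id_comp _, by simp, c.1, c.2⟩ : x ⟶ x), rfl⟩
  refine Finite.of_surjective Φ ?_
  rintro ⟨⟨⟨b, t, wp, wq, c, hc⟩⟩, he⟩
  have hb : b = 𝟙 _ := he
  subst hb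
  have ht : t = 𝟙 _ := by
    apply x.isPullback.hom_ext
    · rw [wp, Category.id_comp]
    · rw [wq, Category.id_comp]
      exact Category.comp_id _
  subst ht
  exact ⟨⟨c, hc⟩, rfl⟩

end K41.CohFA
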