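import Groth.Agent.ModSt.K927.ArtinLP
import Groth.Agent.AlgSp.K607.ArtinDefs
import Groth.Agent.PerfB.StructFlat
import Groth.Agent.S1270

/-!
# Artin's axiom of strong formal effectiveness for `Coh f`, `f` proper of finite presentation
-/

set_option autoImplicit false
universe u

open CategoryTheory CategoryTheory.Limits AlgebraicGeometry Opposite ModSt K607.Artin K927.ModSt

noncomputable section

namespace K41.CohSE

theorem isFlatOver_comp_iso {X S S' : Scheme.{u}} (q : X ⟶ S) (e : S ≅ S') {F : X.Modules}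
    (h : FlatMod.IsFlatOver q F) : FlatMod.IsFlatOver (q ≫ e.hom) F := by
  have hsq : IsPullback (𝟙 X) (q ≫ e.hom) q e.inv := by
    refine IsPullback.of_horiz_isIso ⟨by simp⟩
  exact Groth.Agent.Models2.FlatIso.isFlatOver_of_iso _ ((Scheme.Modules.pullbackId X).app F)
    (Groth.Agent.FormalB.BC.isFlatOver_pullback hsq F h)

variable {Λ : Type u} [CommRing Λ] {X : Scheme.{u}} (f : X ⟶ Spec (CommRingCat.of Λ))

/-- The isomorphism of the base of an object over `sp Λ A` with `Spec A`. -/
def bIso {A : Type u} [CommRing A] [Algebra Λ A] {x : Obj f} (hx : x.base = sp Λ A) :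
    x.base.left ≅ Spec (CommRingCat.of A) :=
  (Over.forget _).mapIso (eqToIso hx)

variable {f}

theorem bIso_hom_comp {A : Type u} [CommRing A] [Algebra Λ A] {x : Obj f} (hx : x.base = sp Λ A) :
    (bIso f hx).hom ≫ Spec.map (CommRingCat.ofHom (algebraMap Λ A)) = x.base.hom :=
  Over.w (eqToHom hx)

theorem isPullback_sp {A : Type u} [CommRing A] [Algebra Λ A] {x : Obj f} (hx : x.base = sp Λ A) :
    IsPullback x.p (x.q ≫ (bIso f hx).hom) f (Spec.map (CommRingCat.ofHom (algebraMap Λ A))) := by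
  refine x.isPullback.of_iso (Iso.refl _) (Iso.refl _) (bIso f hx) (Iso.refl _) ?_ ?_ ?_ ?_
  · simp
  · simp
  · simp
  · rw [bIso_hom_comp]; simp

theorem base_left_comp {A B : Type u} [CommRing A] [Algebra Λ A] [CommRing B] [Algebra Λ B] {x y : Obj f}
    (hx : x.base = sp Λ B) (hy : y.base = sp Λ A) (φ : A →ₐ[Λ] B) (a : x ⟶ y)
    (ha : (Fam f).p.IsHomLift (spMap φ) a) :
    a.base.left ≫ (bIso f hy).hom = (bIso f hx).hom ≫ Spec.map (CommRingCat.ofHom φ.toRingHom) := by
  have h := IsHomLift.fac' (Fam f).p (spMap φ) a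
  have h1 : a.base = eqToHom hx ≫ spMap φ ≫ eqToHom hy.symm := h
  have h2 : a.base ≫ eqToHom hy = eqToHom hx ≫ spMap φ := by rw [h1]; simp
  exact congrArg Over.Hom.left h2

variable (f)

theorem se [IsProper f] [LocallyOfFinitePresentation f] : SE (Coh f) := by
  intro R _ _ t ht hnil R' _ _ π hlim x a ha
  have hx : ∀ n, (x n).obj.base = sp Λ (R n) := fun n => IsHomLift.domain_eq (Coh f).p (spMap (t n)) (a n)
  have ha' : ∀ n, (Fam f).p.IsHomLift (spMap (t n)) (a n).hom := fun n =>
    of_isHomLift_fullSub (𝒳 := Fam f) (Q := IsCohObj) _ _ (ha n)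
  let f' : pullback f (sp Λ R').hom ⟶ Spec (CommRingCat.of R') := pullback.snd _ _
  have : IsProper f' := inferInstanceAs (IsProper (pullback.snd f (sp Λ R').hom))
  have : LocallyOfFinitePresentation f' :=
    inferInstanceAs (LocallyOfFinitePresentation (pullback.snd f (sp Λ R').hom))
  let g : ∀ n, (x n).obj.XT ⟶ Spec (CommRingCat.of (R n)) := fun n => (x n).obj.q ≫ (bIso f (hx n)).hom
  have hg : ∀ n, IsPullback (x n).obj.p (g n) f (sp Λ (R n)).hom := fun n => isPullback_sp (hx n)
  have hw : ∀ n, (spMap (π n)).left ≫ (sp Λ R').hom = (sp Λ (R n)).hom := fun n => Over.w _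
  have hw' : ∀ n, (x n).obj.p ≫ f = (g n ≫ (spMap (π n)).left) ≫ (sp Λ R').hom := fun n => by
    rw [Category.assoc, hw]; exact (hg n).w
  let j : ∀ n, (x n).obj.XT ⟶ pullback f (sp Λ R').hom := fun n =>
    pullback.lift (x n).obj.p (g n ≫ (spMap (π n)).left) (hw' n)
  have hj1 : ∀ n, j n ≫ pullback.fst _ _ = (x n).obj.p := fun n => pullback.lift_fst _ _ _
  have hj2 : ∀ n, j n ≫ f' = g n ≫ (spMap (π n)).left := fun n => pullback.lift_snd _ _ _
  have hpb : ∀ n, IsPullback (j n) (g n) f' (spMap (π n)).left := fun n => by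
    refine IsPullback.of_right ?_ (hj2 n) (IsPullback.of_hasPullback f (sp Λ R').hom)
    rw [hj1, hw]
    exact hg n
  have hιg : ∀ n, (a n).hom.top ≫ g (n + 1) = g n ≫ (spMap (t n)).left := fun n => by
    have h1 := base_left_comp (hx n) (hx (n + 1)) (t n) (a n).hom (ha' n)
    have h2 := (a n).hom.w_q
    change (a n).hom.top ≫ (x (n + 1)).obj.q ≫ (bIso f (hx (n + 1))).hom = _
    rw [reassoc_of% h2, h1]
    exact (Category.assoc _ _ _).symm
  have hπ : ∀ n, (spMap (t n)).left ≫ (spMap (π (n + 1))).left = (spMap (π n)).left := fun n => by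
    have h1 : (t n).toRingHom.comp (π (n + 1)).toRingHom = (π n).toRingHom := hlim.1 n
    change Spec.map _ ≫ Spec.map _ = Spec.map _
    rw [← Spec.map_comp, ← CommRingCat.ofHom_comp, h1]
  have hιj : ∀ n, (a n).hom.top ≫ j (n + 1) = j n := fun n => by
    apply pullback.hom_ext
    · rw [Category.assoc, hj1, hj1]
      exact (a n).hom.w_p
    · change ((a n).hom.top ≫ j (n + 1)) ≫ f' = j n ≫ f'
      rw [Category.assoc, hj2, reassoc_of% hιg, hπ, hj2]
  have hfl : ∀ n, FlatMod.IsFlatOver (g n) (x n).obj.E := fun n =>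
    isFlatOver_comp_iso _ _ (x n).property.1
  have hgp : ∀ n, IsProper (g n) := fun n => MorphismProperty.of_isPullback (hg n) ‹IsProper f›
  obtain ⟨G, hG1, hG2, -, hG3⟩ := Groth.Agent.S1270.result R (fun n => (t n).toRingHom)
    (fun n => (π n).toRingHom) hlim ht hnil f' (fun n => (x n).obj.XT) j g hpb (fun n => (a n).hom.top)
    hιj hιg (fun n => (x n).obj.E) (fun n => (x n).property.2) hfl
    (fun n => Groth.Agent.PerfB.StructFlat.isProperOver_support (g n) (x n).property.2)
    (fun n => (nonempty_iso_pullback (a n).hom.cart).some)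
  let B : Obj f := ⟨sp Λ R', _, pullback.fst _ _, f', IsPullback.of_hasPullback _ _, G⟩
  refine ⟨⟨B, hG2, hG1⟩, fun n => ?_⟩
  obtain ⟨e⟩ := hG3 n
  let c : (x n).obj ⟶ B :=
    { base := eqToHom (hx n) ≫ spMap (π n)
      top := j n
      w_p := hj1 n
      w_q := (hj2 n).trans (Category.assoc _ _ _)
      c := (Scheme.Modules.pullbackPushforwardAdjunction (j n)).unit.app G ≫
        (Scheme.Modules.pushforward (j n)).map e.hom
      cart := isCart_compIso (isCart_unit (j n) G) e }
  refine ⟨ObjectProperty.homMk c, isHomLift_fullSub (𝒳 := Fam f) (Q := IsCohObj) _ _ ?_⟩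
  refine IsHomLift.of_fac (Fam f).p _ _ (hx n) rfl ?_
  change spMap (π n) = eqToHom _ ≫ (eqToHom _ ≫ spMap (π n)) ≫ eqToHom _
  simp

end K41.CohSE
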