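import Groth.Agent.ModSt.K927.ArtinLP
import Groth.Agent.FSch.K180.FTSmall

/-!
# Smallness axiom for `Coh f`
-/

set_option autoImplicit false
universe u

open CategoryTheory CategoryTheory.Limits AlgebraicGeometry Opposite ModSt K607.Artin K927.ModSt

noncomputable section

namespace K41.CohSM

/-- The modules of finite presentation on a scheme form, up to isomorphism, a set in `Type u`. -/
theorem exists_set (X : Scheme.{u}) : ∃ (ι : Type u) (F : ι → X.Modules),
    ∀ M : X.Modules, CohB1.IsFP M → ∃ i, Nonempty (M ≅ F i) := by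
  obtain ⟨Q, hQ, hPQ⟩ := (K180.FTSmall.essentiallySmall_isFinitePresentation X.sheaf).exists_small_le'
  have hQ' : Small.{u} (Subtype Q) := hQ
  let F : Subtype Q → X.Modules := fun q => q.1
  refine ⟨Shrink.{u} (Subtype Q), fun i => F ((equivShrink (Subtype Q)).symm i), fun M hM => ?_⟩
  have key : ∀ q : Subtype Q, Nonempty (M ≅ F q) →
      ∃ i, Nonempty (M ≅ F ((equivShrink (Subtype Q)).symm i)) := fun q h =>
    ⟨equivShrink _ q, by rw [Equiv.symm_apply_apply]; exact h⟩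
  obtain ⟨N, hN, ⟨e⟩⟩ := hPQ M hM
  exact key ⟨N, hN⟩ ⟨⟨e.hom, e.inv, e.hom_inv_id, e.inv_hom_id⟩⟩

variable {Λ : Type u} [CommRing Λ] {X : Scheme.{u}} (f : X ⟶ Spec (CommRingCat.of Λ))

theorem sm : SM (Coh f) := by
  intro k _ _ _
  let Xk : Scheme.{u} := pullback f (sp Λ k).hom
  obtain ⟨ι, F, hF⟩ := exists_set Xk
  let B : ι → Obj f := fun i =>
    ⟨sp Λ k, Xk, pullback.fst _ _, pullback.snd _ _, IsPullback.of_hasPullback _ _, F i⟩
  refine ⟨{i // IsCohObj (B i)}, fun i => ⟨B i.1, i.2⟩, fun y hy => ?_⟩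
  obtain ⟨y, hyc⟩ := y
  have hy' : y.base = sp Λ k := hy
  have hsq : IsPullback (pullback.fst f (sp Λ k).hom) (pullback.snd f (sp Λ k).hom ≫ (eqToHom hy'.symm).left) f
      y.base.hom := by
    refine (IsPullback.of_hasPullback f (sp Λ k).hom).of_iso (Iso.refl _) (Iso.refl _)
      ((Over.forget _).mapIso (eqToIso hy'.symm)) (Iso.refl _) ?_ ?_ ?_ ?_
    · simp
    · simp
    · simp
    · exact (Category.comp_id _).trans (Over.w (eqToHom hy'.symm)).symm
  let s : Xk ⟶ y.XT := y.isPullback.lift (pullback.fst _ _) (pullback.snd _ _ ≫ (eqToHom hy'.symm).left) hsq.w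
  obtain ⟨i, ⟨e⟩⟩ := hF ((Scheme.Modules.pullback s).obj y.E)
    (Groth.Agent.FormalA.PullbackQC.isFP_pullback s y.E hyc.2)
  let ψ : B i ⟶ y :=
    { base := eqToHom hy'.symm
      top := s
      w_p := y.isPullback.lift_fst _ _ _
      w_q := y.isPullback.lift_snd _ _ _
      c := (Scheme.Modules.pullbackPushforwardAdjunction s).unit.app y.E ≫
        (Scheme.Modules.pushforward s).map e.hom
      cart := isCart_compIso (isCart_unit s y.E) e }
  obtain ⟨χ, ⟨h1, -⟩, -⟩ := existsUnique_lift ψ (𝟙 y) (eqToHom hy') (by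
    change eqToHom hy' ≫ eqToHom hy'.symm = 𝟙 _
    simp)
  refine ⟨⟨i, isCohObj_of_hom ψ hyc⟩, ObjectProperty.homMk χ, ?_⟩
  refine isHomLift_fullSub (𝒳 := Fam f) (Q := IsCohObj) _ _ ?_
  refine IsHomLift.of_fac (Fam f).p _ _ hy' rfl ?_
  change 𝟙 _ = eqToHom _ ≫ χ.base ≫ eqToHom _
  rw [h1]
  simp

end K41.CohSM
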